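import Groth.Agent.DepthSections.ZClosed
import Groth.Agent.DepthSections.IsoCrit
import Groth.Agent.ZClosLib.Main
import Groth.Agent.DepthLib.RegularLocal
import Groth.Agent.DepthLib.Ischebeck
import Groth.Agent.DepthLib.Sk
import Groth.Agent.AssSchLib.Basic
import Groth.Agent.GeomUnib.StalkLength
import Groth.Agent.FlatDescent.RestrictFlat
import Groth.Agent.QCohLib.Coherent
import Groth.Agent.QCohLib.Pullback
import Mathlib

/-! Depth of the `Z`-closure and the locus of `Z`-closedness. -/

set_option autoImplicit false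
set_option linter.style.haveILetI false
set_option backward.isDefEq.respectTransparency false
universe u

open AlgebraicGeometry CategoryTheory CategoryTheory.Limits TopologicalSpace Opposite

namespace Groth.Agent.ZClosDepth

variable {X : Scheme.{u}} {Z : Set X}

theorem isZClosed_iff_forall (F : X.Modules) :
    ZClos.IsZClosed Z F ↔ ∀ x, ZClos.IsZClosedAt Z F x :=
  QCohLib.isIso_iff_stalk_bijective (ZClos.rhoApp Z F)

theorem depth_stalk_congr {F G : X.Modules} (φ : F ⟶ G) {x : X}
    (h : Function.Bijective (QCohLib.stalkHom φ x)) :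
    LocCoh.depth (X.presheaf.stalk x) (G.presheaf.stalk x) =
      LocCoh.depth (X.presheaf.stalk x) (F.presheaf.stalk x) :=
  (DepthLib.depth_congr (LinearEquiv.ofBijective (QCohLib.stalkLinearMap φ x)
    ⟨fun a b hab => h.1 hab, h.2⟩)).symm

theorem supportDim_stalk_congr {F G : X.Modules} (φ : F ⟶ G) {x : X}
    (h : Function.Bijective (QCohLib.stalkHom φ x)) :
    Module.supportDim (X.presheaf.stalk x) (G.presheaf.stalk x) =
      Module.supportDim (X.presheaf.stalk x) (F.presheaf.stalk x) :=
  (Module.supportDim_eq_of_equiv (LinearEquiv.ofBijective (QCohLib.stalkLinearMap φ x)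
    ⟨fun a b hab => h.1 hab, h.2⟩)).symm

/-- The stalks of the `Z`-closure have depth two on `Z`. -/
theorem two_le_depth_H0 [IsLocallyNoetherian X] (hZ : StableUnderSpecialization Z) (F : X.Modules)
    (hH : Coh.IsCoh ((ZClos.H0 Z).obj F)) (x : X) (hx : x ∈ Z) :
    (2 : ℕ∞) ≤ LocCoh.depth (X.presheaf.stalk x) (((ZClos.H0 Z).obj F).presheaf.stalk x) :=
  (DepthSections.isZClosedAt_iff _ Z hZ hH x).mp
    ((isZClosed_iff_forall _).mp (ZClosLib.isZClosed_H0 hZ F) x) x specializes_rfl hx

/-- The locus where a map of coherent modules is bijective on stalks is open. -/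
theorem isOpen_setOf_bijective [IsLocallyNoetherian X] {F G : X.Modules} (φ : F ⟶ G)
    (hF : Coh.IsCoh F) (hG : Coh.IsCoh G) :
    IsOpen {x : X | Function.Bijective (QCohLib.stalkHom φ x)} := by
  have h : {x : X | Function.Bijective (QCohLib.stalkHom φ x)} =
      (CohB1.support (kernel φ) ∪ CohB1.support (cokernel φ))ᶜ := by
    ext x
    have hmono : Function.Injective (QCohLib.stalkHom (kernel.ι φ) x) :=
      (QCohLib.mono_iff_stalk_injective (kernel.ι φ)).mp inferInstance x
    have hepi : Function.Surjective (QCohLib.stalkHom (cokernel.π φ) x) :=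
      (QCohLib.epi_iff_stalk_surjective (cokernel.π φ)).mp inferInstance x
    simp only [Set.mem_setOf_eq, CohB1.support, Set.mem_compl_iff, Set.mem_union, not_or,
      not_not]
    constructor
    · intro hb
      refine ⟨⟨fun a b => hmono ?_⟩, subsingleton_of_forall_eq 0 fun n => ?_⟩
      · apply hb.1
        rw [← QCohLib.stalkHom_comp, ← QCohLib.stalkHom_comp, kernel.condition, QCohLib.stalkHom_zero,
          QCohLib.stalkHom_zero]
      · obtain ⟨g, rfl⟩ := hepi n
        exact (QCohLib.stalk_cokernel_exact φ x g).mpr (hb.2 g)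
    · rintro ⟨hk, hc⟩
      refine ⟨(injective_iff_map_eq_zero _).mpr fun m hm => ?_,
        fun n => (QCohLib.stalk_cokernel_exact φ x n).mp (Subsingleton.elim _ _)⟩
      obtain ⟨c, rfl⟩ := (QCohLib.stalk_kernel_exact φ x m).mp hm
      rw [Subsingleton.elim c 0, map_zero]
  rw [h, isOpen_compl_iff]
  exact (QCohLib.isClosed_support (QCohLib.isCoh_kernel φ hF hG.1).2).union
    (QCohLib.isClosed_support (QCohLib.isCoh_cokernel φ hF.1 hG).2)

theorem isOpen_setOf_isZClosedAt [IsLocallyNoetherian X] (F : X.Modules) (hF : Coh.IsCoh F)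
    (hH : Coh.IsCoh ((ZClos.H0 Z).obj F)) : IsOpen {x : X | ZClos.IsZClosedAt Z F x} :=
  isOpen_setOf_bijective (ZClos.rhoApp Z F) hF hH

/-- Depth of a stalk of a restriction to an open subscheme. -/
theorem depth_restrict {Y : Scheme.{u}} (k : Y ⟶ X) [IsOpenImmersion k] (F : X.Modules) (y : Y) :
    LocCoh.depth (Y.presheaf.stalk y) (((Scheme.Modules.restrictFunctor k).obj F).presheaf.stalk y) =
      LocCoh.depth (X.presheaf.stalk (k y)) (F.presheaf.stalk (k y)) := by
  letI : Algebra (X.presheaf.stalk (k y)) (Y.presheaf.stalk y) := (k.stalkMap y).hom.toAlgebra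
  letI : Module (X.presheaf.stalk (k y)) (((Scheme.Modules.restrictFunctor k).obj F).presheaf.stalk y) :=
    Module.compHom _ (k.stalkMap y).hom
  haveI : IsScalarTower (X.presheaf.stalk (k y)) (Y.presheaf.stalk y)
      (((Scheme.Modules.restrictFunctor k).obj F).presheaf.stalk y) :=
    IsScalarTower.of_algebraMap_smul fun _ _ => rfl
  rw [DepthLib.depth_eq_of_surjective (R := X.presheaf.stalk (k y)) (S := Y.presheaf.stalk y)
    (ConcreteCategory.bijective_of_isIso (k.stalkMap y)).2]
  exact DepthLib.depth_congr (LinearEquiv.ofBijective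
    { toFun := (QCohLib.restrictStalkIso k F y).hom
      map_add' := map_add _
      map_smul' := fun r a => FlatDescent.restrictStalk_smul k F y r a }
    (QCohLib.restrictStalkIso_bijective k F y))

theorem isZClosed_restrict_iff [IsLocallyNoetherian X] (hZ : StableUnderSpecialization Z) (F : X.Modules)
    (hF : Coh.IsCoh F) (U : X.Opens)
    (hFU : Coh.IsCoh ((Scheme.Modules.restrictFunctor U.ι).obj F)) :
    ZClos.IsZClosed (U.ι.base ⁻¹' Z) ((Scheme.Modules.restrictFunctor U.ι).obj F) ↔
      ∀ x ∈ U, x ∈ Z → (2 : ℕ∞) ≤ LocCoh.depth (X.presheaf.stalk x) (F.presheaf.stalk x) := by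
  have hZU : StableUnderSpecialization (U.ι.base ⁻¹' Z) := fun a b hab ha =>
    hZ (hab.map U.ι.continuous) ha
  rw [isZClosed_iff_forall]
  refine ⟨fun h x hxU hxZ => ?_, fun h y => ?_⟩
  · have := (DepthSections.isZClosedAt_iff _ _ hZU hFU ⟨x, hxU⟩).mp (h _) ⟨x, hxU⟩ specializes_rfl hxZ
    rwa [depth_restrict] at this
  · refine (DepthSections.isZClosedAt_iff _ _ hZU hFU y).mpr fun y' _ hy'Z => ?_
    rw [depth_restrict]
    exact h _ (by rw [← SetLike.mem_coe, ← Scheme.Opens.range_ι]; exact Set.mem_range_self y') hy'Z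

theorem mem_ass_iff_of_bijective {F G : X.Modules} (φ : F ⟶ G) {x : X}
    (h : Function.Bijective (QCohLib.stalkHom φ x)) : x ∈ AssSch.Ass F ↔ x ∈ AssSch.Ass G := by
  have e := LinearEquiv.ofBijective (QCohLib.stalkLinearMap φ x) ⟨fun a b hab => h.1 hab, h.2⟩
  change IsAssociatedPrime _ _ ↔ IsAssociatedPrime _ _
  exact ⟨fun h' => h'.map_of_injective e.toLinearMap e.injective,
    fun h' => h'.map_of_injective e.symm.toLinearMap e.symm.injective⟩

theorem isCoh_restrictFunctor (U : X.Opens) {F : X.Modules} (hF : Coh.IsCoh F) :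
    Coh.IsCoh ((Scheme.Modules.restrictFunctor U.ι).obj F) :=
  QCohLib.isCoh_of_iso ((Scheme.Modules.restrictFunctorIsoPullback U.ι).app F).symm (QCohLib.isCoh_pullback U.ι F hF)

/-- A stalk with full support has dimension that of the local ring. -/
theorem supportDim_stalk_eq (F : X.Modules) [F.IsQuasicoherent]
    (hsupp : ∀ x : X, Nontrivial (F.presheaf.stalk x)) (x : X) :
    Module.supportDim (X.presheaf.stalk x) (F.presheaf.stalk x) = ringKrullDim (X.presheaf.stalk x) := by
  have h : Module.support (X.presheaf.stalk x) (F.presheaf.stalk x) = Set.univ :=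
    Set.eq_univ_of_forall fun q => by
      have := (GeomUnib.lenAt_genPrime F (GeomUnib.fromSpecStalk_specializes q)).2.mpr (hsupp _)
      rwa [GeomUnib.genPrime_fromSpecStalk] at this
  rw [Module.supportDim, h]
  exact Order.krullDim_eq_of_orderIso OrderIso.Set.univ

/-- The prime of a generalisation which is an associated point is associated in the stalk. -/
theorem comap_mem_associatedPrimes [IsLocallyNoetherian X] (G : X.Modules) [G.IsQuasicoherent] {x y : X}
    (h : x ⤳ y) (hx : x ∈ AssSch.Ass G) :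
    (IsLocalRing.maximalIdeal (X.presheaf.stalk x)).comap (X.presheaf.stalkSpecializes h).hom ∈
      associatedPrimes (X.presheaf.stalk y) (G.presheaf.stalk y) := by
  obtain ⟨W, hW, hyW, -⟩ := exists_isAffineOpen_mem_and_subset (X := X) (x := y) (U := ⊤) trivial
  haveI : IsNoetherianRing Γ(X, W) := IsLocallyNoetherian.component_noetherian ⟨W, hW⟩
  have hxW : x ∈ W := h.mem_open W.isOpen hyW
  have hP := AssSchLib.primeIdealOf_mem_associatedPrimes hW hxW hx
  letI : Algebra Γ(X, W) (X.presheaf.stalk y) := (X.presheaf.germ W y hyW).hom.toAlgebra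
  haveI : IsLocalization.AtPrime (X.presheaf.stalk y) (hW.primeIdealOf ⟨y, hyW⟩).asIdeal :=
    hW.isLocalization_stalk ⟨y, hyW⟩
  letI := QCohLib.germModule G y hyW
  haveI := QCohLib.isLocalizedModule_germ (M := G) hW y hyW
  haveI : IsScalarTower Γ(X, W) (X.presheaf.stalk y) (G.presheaf.stalk y) :=
    IsScalarTower.of_algebraMap_smul fun _ _ => rfl
  rw [← Module.associatedPrimes.preimage_comap_associatedPrimes_eq_associatedPrimes_of_isLocalizedModule
    (hW.primeIdealOf ⟨y, hyW⟩).asIdeal.primeCompl (X.presheaf.stalk y) (QCohLib.germLinearMap G y hyW),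
    Set.mem_preimage]
  refine cast ?_ hP
  congr 1
  letI : Algebra Γ(X, W) (X.presheaf.stalk x) := (X.presheaf.germ W x hxW).hom.toAlgebra
  haveI : IsLocalization.AtPrime (X.presheaf.stalk x) (hW.primeIdealOf ⟨x, hxW⟩).asIdeal :=
    hW.isLocalization_stalk ⟨x, hxW⟩
  ext r
  change r ∈ (hW.primeIdealOf ⟨x, hxW⟩).asIdeal ↔
    X.presheaf.stalkSpecializes h (X.presheaf.germ W y hyW r) ∈ IsLocalRing.maximalIdeal (X.presheaf.stalk x)
  rw [TopCat.Presheaf.germ_stalkSpecializes_apply]
  exact (IsLocalization.AtPrime.to_map_mem_maximal_iff (X.presheaf.stalk x)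
    (hW.primeIdealOf ⟨x, hxW⟩).asIdeal r).symm

/-- Off a set containing the points of dimension two, `S₂` is automatic without dimension one associated points. -/
theorem s2_of_dim_le_one [IsLocallyNoetherian X] (F : X.Modules) (hF : Coh.IsCoh F)
    (hsupp : ∀ x : X, Nontrivial (F.presheaf.stalk x))
    (hass : ∀ x ∈ AssSch.Ass F, ringKrullDim (X.presheaf.stalk x) ≠ 1) (x : X)
    (hx : x ∉ ZClos.dimGe X 2) :
    min (2 : WithBot ℕ∞) (Module.supportDim (X.presheaf.stalk x) (F.presheaf.stalk x)) ≤
      ((LocCoh.depth (X.presheaf.stalk x) (F.presheaf.stalk x) : ℕ∞) : WithBot ℕ∞) := by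
  haveI := hF.1
  haveI := CohFinite.finite_stalk hF x
  refine min_le_of_right_le ?_
  rw [supportDim_stalk_eq F hsupp]
  by_cases h0 : ringKrullDim (X.presheaf.stalk x) ≤ 0
  · exact h0.trans (by simp)
  have hle : ringKrullDim (X.presheaf.stalk x) < ((2 : ℕ) : WithBot ℕ∞) := not_le.mp hx
  have h1 : ringKrullDim (X.presheaf.stalk x) = 1 := by
    generalize ringKrullDim (X.presheaf.stalk x) = d at h0 hle ⊢
    induction d using WithBot.recBotCoe with
    | bot => simp at h0
    | coe d =>
      induction d using ENat.recTopCoe with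
      | top => norm_cast at hle
      | coe n =>
        have e : ((n : ℕ∞) : WithBot ℕ∞) = (n : WithBot ℕ∞) := rfl
        rw [e] at h0 hle ⊢
        have h1 : n < 2 := Nat.cast_lt.mp hle
        have h2 : 0 < n := Nat.pos_of_ne_zero fun h => h0 (le_of_eq (by rw [h, Nat.cast_zero]))
        rw [show n = 1 by omega, Nat.cast_one]
  rw [h1]
  refine WithBot.coe_le_coe.mpr (DepthLib.one_le_idealDepth_iff_forall_associatedPrimes.mpr fun P hP hle => ?_)
  refine hass x ?_ h1
  have hPm : P = IsLocalRing.maximalIdeal (X.presheaf.stalk x) :=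
    le_antisymm (IsLocalRing.le_maximalIdeal hP.isPrime.ne_top) hle
  subst hPm
  exact hP

theorem two_le_depth_iff_s2 (F : X.Modules) [F.IsQuasicoherent]
    (hsupp : ∀ x : X, Nontrivial (F.presheaf.stalk x)) {x : X} (hx : x ∈ ZClos.dimGe X 2) :
    min (2 : WithBot ℕ∞) (Module.supportDim (X.presheaf.stalk x) (F.presheaf.stalk x)) ≤
        ((LocCoh.depth (X.presheaf.stalk x) (F.presheaf.stalk x) : ℕ∞) : WithBot ℕ∞) ↔
      (2 : ℕ∞) ≤ LocCoh.depth (X.presheaf.stalk x) (F.presheaf.stalk x) := by
  rw [supportDim_stalk_eq F hsupp, min_eq_left (by exact_mod_cast hx)]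
  exact WithBot.coe_le_coe (a := (2 : ℕ∞))

theorem stableUnderSpecialization_dimGe (X : Scheme.{u}) (n : ℕ) :
    StableUnderSpecialization (ZClos.dimGe X n) := fun x y h hx => by
  rw [ZClos.dimGe, Set.mem_setOf_eq, ringKrullDim_stalk_eq_coheight] at hx ⊢
  exact hx.trans (WithBot.coe_le_coe.mpr (Order.coheight_anti h))

end Groth.Agent.ZClosDepth
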